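import Groth.Agent.SpSeqFilCx.Basic

/-!
Convergence of the spectral sequence of a filtered complex under finiteness hypotheses.
-/

set_option autoImplicit false
set_option backward.isDefEq.respectTransparency false
set_option backward.defeqAttrib.useBackward true
set_option linter.style.haveILetI false

universe v u

open CategoryTheory CategoryTheory.Limits

namespace Groth.Agent.SpSeqFilCx

open SubobjQuot

variable {A : Type u} [Category.{v} A] [Abelian A]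

section Obj

theorem filObj_isSeparated {F : SpSeq.FilObj A} (h : F.IsDiscrete) : F.IsSeparated := by
  obtain ⟨b, hb⟩ := h
  exact ⟨fun S _ => bot_le, fun S hS => (hS ⟨b, rfl⟩).trans hb.le⟩

theorem filObj_isExhaustive {F : SpSeq.FilObj A} (h : F.IsCodiscrete) : F.IsExhaustive := by
  obtain ⟨a, ha⟩ := h
  exact ⟨fun S _ => le_top, fun S hS => ha.ge.trans (hS ⟨a, rfl⟩)⟩

theorem arrow_eq_zero_of_eq_bot {X : A} {S : Subobject X} (h : S = ⊥) : S.arrow = 0 :=
  (Subobject.bot_factors_iff_zero _).1 (arrow_factors_of_le h.le)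

theorem filObj_isComplete {F : SpSeq.FilObj A} (h : F.IsDiscrete) : F.IsComplete := by
  obtain ⟨b, hb⟩ := h
  intro T f hf
  have : Mono (cokernel.π (F.fil b).arrow) :=
    Preadditive.mono_of_cancel_zero _ fun {P} g hg => by
      exact (Abelian.monoLift_comp (F.fil b).arrow g hg).symm.trans
        ((congrArg (Abelian.monoLift (F.fil b).arrow g hg ≫ ·) (arrow_eq_zero_of_eq_bot hb)).trans comp_zero)
  have : IsIso (cokernel.π (F.fil b).arrow) := isIso_of_mono_of_epi _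
  refine ⟨f b ≫ inv (cokernel.π (F.fil b).arrow), fun p => ?_⟩
  rcases le_total p b with hp | hp
  · rw [← hf p b hp, Category.assoc]
    congr 1
    rw [IsIso.inv_comp_eq]
    simp [SpSeq.FilObj.quotMap]
  · have hp0 : (F.fil p).arrow = 0 := arrow_eq_zero_of_eq_bot (le_bot_iff.1 ((F.anti hp).trans hb.le))
    have : Mono (cokernel.π (F.fil p).arrow) :=
      Preadditive.mono_of_cancel_zero _ fun {P} g hg => by
        exact (Abelian.monoLift_comp (F.fil p).arrow g hg).symm.trans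
          ((congrArg (Abelian.monoLift (F.fil p).arrow g hg ≫ ·) hp0).trans comp_zero)
    have : IsIso (cokernel.π (F.fil p).arrow) := isIso_of_mono_of_epi _
    have e : cokernel.π (F.fil p).arrow ≫ F.quotMap hp = cokernel.π (F.fil b).arrow := by
      simp [SpSeq.FilObj.quotMap]
    have : IsIso (F.quotMap hp) :=
      IsIso.of_isIso_fac_left (g := F.quotMap hp) (f := cokernel.π (F.fil p).arrow) e
    rw [← cancel_mono (F.quotMap hp), Category.assoc, e, Category.assoc, IsIso.inv_hom_id,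
      Category.comp_id, hf b p hp]

end Obj

variable (K : SpSeq.FilCx A)

theorem ZTop_le_ZSub (r : ℕ) (p n : ℤ) : K.ZTop p n ≤ K.ZSub r p n :=
  sup_le_sup_right (inf_le_inf_left _ (SpSeq.FilCx.kernelSubobject_le_pullback _ _)) _

theorem BSub_le_BBot (r : ℕ) (p n : ℤ) : K.BSub r p n ≤ K.BBot p n :=
  sup_le_sup_right (inf_le_inf_left _ (imageSubobject_comp_le _ _)) _

section Hyp

variable (h0 : ∀ n : ℤ, ∃ p₀ : ℤ, ∀ p : ℤ, p₀ ≤ p → IsZero ((K.fil p : CochainComplex A ℤ).homology n))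
  (h1 : ∀ n : ℤ, ∃ p₁ : ℤ, ∀ p : ℤ, p ≤ p₁ → IsIso (HomologicalComplex.homologyMap (K.fil p).arrow n))

include h0 in
theorem exists_ZSub_eq_ZTop (p n : ℤ) : ∃ r₀ : ℕ, ∀ r, r₀ ≤ r → K.ZSub r p n = K.ZTop p n := by
  obtain ⟨p₀, hp₀⟩ := h0 (n + 1)
  refine ⟨max 1 (p₀ - p).toNat, fun r hr => le_antisymm (le_of_ref fun Z x hx => ?_) (ZTop_le_ZSub K r p n)⟩
  obtain ⟨Z₁, π₁, hπ₁, a, b, ha, hda, hb, e⟩ := ZSub_elim K hx
  have hr1 : (1 : ℤ) ≤ r := by exact_mod_cast (le_max_left _ _).trans hr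
  have hr2 : p₀ ≤ p + r := by
    have := (le_max_right _ _).trans hr
    omega
  obtain ⟨Z₂, π₂, hπ₂, y, hy, ey⟩ :=
    exists_boundary_of_isZero K (hp₀ _ hr2) hda (by simp)
  have hy' : ∃ y : Z₂ ⟶ K.obj.X n, (K.filX (p + r) n).Factors y ∧
      (π₂ ≫ a) ≫ K.obj.d n (n + 1) = y ≫ K.obj.d n (n + 1) := by
    revert y
    rw [add_sub_cancel_right]
    exact fun y hy ey => ⟨y, hy, by rw [Category.assoc, ey]⟩
  obtain ⟨y, hy, ey⟩ := hy'
  refine ⟨Z₂, π₂ ≫ π₁, inferInstance, ?_⟩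
  rw [Category.assoc, e, Preadditive.comp_add,
    show π₂ ≫ a + π₂ ≫ b = (π₂ ≫ a - y) + (y + π₂ ≫ b) by abel]
  exact ZTop_mk K (factors_sub (factors_comp _ ha) (filX_mono K (by omega) hy))
    (by rw [Preadditive.sub_comp, ey, sub_self])
    (Subobject.factors_add _ _ (filX_mono K (by omega) hy) (factors_comp _ hb))

include h1 in
theorem exists_BSub_eq_BBot (p n : ℤ) : ∃ r₀ : ℕ, ∀ r, r₀ ≤ r → K.BSub r p n = K.BBot p n := by
  obtain ⟨p₁, hp₁⟩ := h1 n
  refine ⟨max 1 (p - p₁ + 1).toNat, fun r hr => le_antisymm (BSub_le_BBot K r p n) (le_of_ref fun Z x hx => ?_)⟩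
  obtain ⟨Z₁, π₁, hπ₁, w, b, hdw, hb, e⟩ := BBot_elim K hx
  have hr1 : (1 : ℤ) ≤ r := by exact_mod_cast (le_max_left _ _).trans hr
  have hr2 : p - r + 1 ≤ p₁ := by
    have := (le_max_right _ _).trans hr
    omega
  have := hp₁ _ hr2
  obtain ⟨Z₂, π₂, hπ₂, w', hw', ew⟩ :=
    exists_boundary_of_mono K (p := p - r + 1) (filX_mono K (by omega) hdw) rfl
  refine ⟨Z₂, π₂ ≫ π₁, inferInstance, ?_⟩
  rw [Category.assoc, e, Preadditive.comp_add, ew]
  exact BSub_mk K hw' (by rw [← ew]; exact factors_comp _ hdw) (factors_comp _ hb)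

include h0 h1 in
theorem isBounded_one : K.IsBounded 1 := by
  intro n
  obtain ⟨a₀, ha₀⟩ := h0 n
  obtain ⟨a₀', ha₀'⟩ := h0 (n + 1)
  obtain ⟨a₁, ha₁⟩ := h1 n
  obtain ⟨a₁', ha₁'⟩ := h1 (n + 1)
  apply (Set.finite_Icc (min a₁ a₁') (max a₀ a₀')).subset
  intro p hp
  by_contra hp'
  apply hp
  apply subquot_isZero
  apply le_of_ref
  intro Z x hx
  obtain ⟨Z₁, π₁, hπ₁, a, b, ha, hda, hb, e⟩ := ZSub_elim K hx
  simp only [Nat.cast_one] at hda
  rcases not_and_or.1 hp' with hlow | hhigh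
  · have hi : IsIso (HomologicalComplex.homologyMap (K.fil (p + 1)).arrow (n + 1)) := ha₁' _ (by omega)
    have hi' : IsIso (HomologicalComplex.homologyMap (K.fil (p + 1)).arrow n) := ha₁ _ (by omega)
    have hi'' : IsIso (HomologicalComplex.homologyMap (K.fil p).arrow n) := ha₁ _ (by omega)
    obtain ⟨Z₂, π₂, hπ₂, y, hy, ey⟩ : ∃ (Z₂ : A) (π₂ : Z₂ ⟶ Z₁) (_ : Epi π₂) (y : Z₂ ⟶ K.obj.X n),
        (K.filX (p + 1) n).Factors y ∧ π₂ ≫ a ≫ K.obj.d n (n + 1) = y ≫ K.obj.d n (n + 1) := by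
      have key : ∀ (m : ℤ) (_ : m = n) (a : Z₁ ⟶ K.obj.X m), (K.filX (p + 1) (n + 1)).Factors (a ≫ K.obj.d m (n + 1)) →
          ∃ (Z₂ : A) (π₂ : Z₂ ⟶ Z₁) (_ : Epi π₂) (y : Z₂ ⟶ K.obj.X m),
            (K.filX (p + 1) m).Factors y ∧ π₂ ≫ a ≫ K.obj.d m (n + 1) = y ≫ K.obj.d m (n + 1) := by
        intro m hm
        obtain rfl : m = n + 1 - 1 := by omega
        intro a hda
        obtain ⟨Z₂, π₂, hπ₂, y, hy, ey⟩ := exists_boundary_of_mono K hda rfl
        exact ⟨Z₂, π₂, hπ₂, y, hy, ey⟩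
      exact key n rfl a hda
    have hc : (π₂ ≫ a - y) ≫ K.obj.d n (n + 1) = 0 := by
      rw [Preadditive.sub_comp, Category.assoc, ey, sub_self]
    obtain ⟨Z₃, π₃, hπ₃, z, w, hz, hdz, ez⟩ := exists_decomp_of_epi K (p := p + 1) hc
    have hwd : (K.filX p n).Factors (w ≫ K.obj.d (n - 1) n) := by
      rw [show w ≫ K.obj.d (n - 1) n = π₃ ≫ (π₂ ≫ a - y) - z by rw [ez]; abel]
      exact factors_sub (factors_comp _ (factors_sub (factors_comp _ ha)
        (filX_mono K (by omega) hy))) (filX_mono K (by omega) hz)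
    obtain ⟨Z₄, π₄, hπ₄, w', hw', ew⟩ := exists_boundary_of_mono K hwd rfl
    refine ⟨Z₄, π₄ ≫ π₃ ≫ π₂ ≫ π₁, inferInstance, ?_⟩
    have : (π₄ ≫ π₃ ≫ π₂ ≫ π₁) ≫ x = w' ≫ K.obj.d (n - 1) n +
        (π₄ ≫ z + π₄ ≫ π₃ ≫ y + π₄ ≫ π₃ ≫ π₂ ≫ b) := by
      simp only [Category.assoc, e, Preadditive.comp_add]
      rw [show π₃ ≫ π₂ ≫ a = (z + w ≫ K.obj.d (n - 1) n) + π₃ ≫ y by
        rw [← ez, Preadditive.comp_sub]; abel]
      simp only [Preadditive.comp_add, ew]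
      abel
    rw [this]
    refine BSub_mk K (by simpa using hw') (by rw [← ew]; exact factors_comp _ hwd) ?_
    exact Subobject.factors_add _ _ (Subobject.factors_add _ _ (factors_comp _ hz)
      (factors_comp _ (factors_comp _ hy))) (factors_comp _ (factors_comp _ (factors_comp _ hb)))
  · obtain ⟨Z₂, π₂, hπ₂, y, hy, ey⟩ : ∃ (Z₂ : A) (π₂ : Z₂ ⟶ Z₁) (_ : Epi π₂) (y : Z₂ ⟶ K.obj.X n),
        (K.filX (p + 1) n).Factors y ∧ π₂ ≫ a ≫ K.obj.d n (n + 1) = y ≫ K.obj.d n (n + 1) := by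
      have key : ∀ (m : ℤ) (_ : m = n) (a : Z₁ ⟶ K.obj.X m), (K.filX (p + 1) (n + 1)).Factors (a ≫ K.obj.d m (n + 1)) →
          ∃ (Z₂ : A) (π₂ : Z₂ ⟶ Z₁) (_ : Epi π₂) (y : Z₂ ⟶ K.obj.X m),
            (K.filX (p + 1) m).Factors y ∧ π₂ ≫ a ≫ K.obj.d m (n + 1) = y ≫ K.obj.d m (n + 1) := by
        intro m hm
        obtain rfl : m = n + 1 - 1 := by omega
        intro a hda
        obtain ⟨Z₂, π₂, hπ₂, y, hy, ey⟩ :=
          exists_boundary_of_isZero K (ha₀' _ (by omega)) hda (by simp)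
        exact ⟨Z₂, π₂, hπ₂, y, hy, ey⟩
      exact key n rfl a hda
    have hc : (π₂ ≫ a - y) ≫ K.obj.d n (n + 1) = 0 := by
      rw [Preadditive.sub_comp, Category.assoc, ey, sub_self]
    obtain ⟨Z₃, π₃, hπ₃, w, hw, ew⟩ := exists_boundary_of_isZero K (p := p) (ha₀ _ (by omega))
      (factors_sub (factors_comp _ ha) (filX_mono K (by omega) hy)) hc
    refine ⟨Z₃, π₃ ≫ π₂ ≫ π₁, inferInstance, ?_⟩
    have : (π₃ ≫ π₂ ≫ π₁) ≫ x = w ≫ K.obj.d (n - 1) n + (π₃ ≫ y + π₃ ≫ π₂ ≫ b) := by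
      simp only [Category.assoc, e, Preadditive.comp_add]
      rw [← ew, Preadditive.comp_sub]
      abel
    rw [this]
    exact BSub_mk K (by simpa using hw) (by rw [← ew]; exact factors_comp _ (factors_sub (factors_comp _ ha)
      (filX_mono K (by omega) hy))) (Subobject.factors_add _ _ (factors_comp _ hy) (factors_comp _ (factors_comp _ hb)))

include h0 h1 in
theorem hFil_isFinite (n : ℤ) : (K.HFil n).IsFinite := by
  obtain ⟨a₁, ha₁⟩ := h1 n
  obtain ⟨a₀, ha₀⟩ := h0 n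
  refine ⟨⟨a₁, ?_⟩, ⟨a₀, ?_⟩⟩
  · show imageSubobject _ = ⊤
    have := ha₁ a₁ le_rfl
    rw [← top_le_iff]
    exact le_of_factors (by
      rw [← Category.comp_id (⊤ : Subobject (K.obj.homology n)).arrow,
        ← IsIso.inv_hom_id (HomologicalComplex.homologyMap (K.fil a₁).arrow n), ← Category.assoc]
      exact image_factors_comp _)
  · show imageSubobject _ = ⊥
    rw [← le_bot_iff]
    exact imageSubobject_le _ 0 ((ha₀ a₀ le_rfl).eq_of_src _ _)

include h0 h1 in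
theorem converges : K.Converges := by
  refine ⟨fun p n => ?_, ⟨fun p n => ⟨?_, ?_⟩, fun n => ?_⟩, fun n => ?_⟩
  · obtain ⟨r₀, hr⟩ := exists_ZSub_eq_ZTop K h0 p n
    exact ⟨r₀, fun r h => (hr r h).trans (hr r₀ le_rfl).symm⟩
  · obtain ⟨r₀, hr⟩ := exists_ZSub_eq_ZTop K h0 p n
    exact ⟨by rintro _ ⟨r, rfl⟩; exact ZTop_le_ZSub K r p n,
      fun S hS => (hS ⟨r₀, rfl⟩).trans (hr r₀ le_rfl).le⟩
  · obtain ⟨r₀, hr⟩ := exists_BSub_eq_BBot K h1 p n
    exact ⟨by rintro _ ⟨r, rfl⟩; exact BSub_le_BBot K r p n,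
      fun S hS => (hr r₀ le_rfl).ge.trans (hS ⟨r₀, rfl⟩)⟩
  · exact ⟨filObj_isSeparated (hFil_isFinite K h0 h1 n).2, filObj_isExhaustive (hFil_isFinite K h0 h1 n).1⟩
  · exact filObj_isComplete (hFil_isFinite K h0 h1 n).2

end Hyp

section Finite

variable (hK : ∀ n : ℤ, (K.XFil n).IsFinite)

include hK in
theorem isBounded_zero : K.IsBounded 0 := by
  intro n
  obtain ⟨⟨a, ha⟩, b, hb⟩ := hK n
  apply (Set.finite_Icc a b).subset
  intro p hp
  by_contra hp'
  apply hp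
  apply subquot_isZero
  have : K.filX p n ≤ K.filX (p + 1) n := by
    rcases not_and_or.1 hp' with h | h
    · have h' : p + 1 ≤ a := by omega
      exact le_top.trans (ha.ge.trans (K.filX_anti n h'))
    · have h' : b ≤ p := by omega
      exact ((K.filX_anti n h').trans hb.le).trans bot_le
  exact sup_le ((inf_le_left.trans this).trans le_sup_right) le_sup_right

include hK in
theorem isZero_homology_of_finite (n : ℤ) :
    ∃ p₀ : ℤ, ∀ p : ℤ, p₀ ≤ p → IsZero ((K.fil p : CochainComplex A ℤ).homology n) := by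
  obtain ⟨-, b, hb⟩ := hK n
  refine ⟨b, fun p hp => ?_⟩
  rw [← HomologicalComplex.exactAt_iff_isZero_homology,
    HomologicalComplex.exactAt_iff_exact_up_to_refinements _ (n - 1) n (n + 1) (by simp) (by simp)]
  intro Z x hx
  have h0 : x ≫ (K.fil p).arrow.f n = 0 :=
    (Subobject.bot_factors_iff_zero _).1 (Subobject.factors_of_le _
      ((K.filX_anti n hp).trans hb.le) ((filX_factors_iff K).2 ⟨x, rfl⟩))
  exact ⟨Z, 𝟙 Z, inferInstance, 0, by rw [Category.id_comp, zero_comp, ← cancel_mono ((K.fil p).arrow.f n), h0, zero_comp]⟩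

include hK in
theorem isIso_homologyMap_of_finite (n : ℤ) :
    ∃ p₁ : ℤ, ∀ p : ℤ, p ≤ p₁ → IsIso (HomologicalComplex.homologyMap (K.fil p).arrow n) := by
  obtain ⟨⟨a₀, ha₀⟩, -⟩ := hK (n - 1)
  obtain ⟨⟨a₁, ha₁⟩, -⟩ := hK n
  obtain ⟨⟨a₂, ha₂⟩, -⟩ := hK (n + 1)
  refine ⟨min a₀ (min a₁ a₂), fun p hp => ?_⟩
  have key : ∀ (m a : ℤ), (K.XFil m).fil a = ⊤ → p ≤ a → IsIso ((K.fil p).arrow.f m) := by
    intro m a ha hpa
    have h := (ha.ge.trans (K.filX_anti m hpa))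
    obtain ⟨y, hy⟩ := (filX_factors_iff K).1
      (Subobject.factors_of_le (𝟙 (K.obj.X m)) h (Subobject.top_factors _))
    exact ⟨y, by rw [← cancel_mono ((K.fil p).arrow.f m), Category.assoc, hy]; simp, hy⟩
  have h0' := key _ _ ha₀ (by omega)
  have h1' := key _ _ ha₁ (by omega)
  have h2' := key _ _ ha₂ (by omega)
  have : Mono (HomologicalComplex.homologyMap (K.fil p).arrow n) := by
    rw [HomologicalComplex.mono_homologyMap_iff_up_to_refinements _ (n - 1) n (n + 1) (by simp) (by simp)]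
    intro Z x _ w hw
    refine ⟨Z, 𝟙 Z, inferInstance, w ≫ inv ((K.fil p).arrow.f (n - 1)), ?_⟩
    rw [← cancel_mono ((K.fil p).arrow.f n), Category.id_comp, Category.assoc, Category.assoc,
      ← HomologicalComplex.Hom.comm, IsIso.inv_hom_id_assoc, hw]
  have : Epi (HomologicalComplex.homologyMap (K.fil p).arrow n) := by
    rw [HomologicalComplex.epi_homologyMap_iff_up_to_refinements _ (n - 1) n (n + 1) (by simp) (by simp)]
    intro Z y hy
    refine ⟨Z, 𝟙 Z, inferInstance, y ≫ inv ((K.fil p).arrow.f n), ?_, 0, by simp⟩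
    rw [← cancel_mono ((K.fil p).arrow.f (n + 1)), Category.assoc, Category.assoc,
      ← HomologicalComplex.Hom.comm, IsIso.inv_hom_id_assoc, hy, zero_comp]
  exact isIso_of_mono_of_epi _

end Finite

end Groth.Agent.SpSeqFilCx
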