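import Groth.Agent.SpSeqFilCx.Pages

/-!
`E_∞` is the graded object of the filtration of cohomology; weak Serre classes.
-/

set_option autoImplicit false
set_option backward.isDefEq.respectTransparency false
set_option backward.defeqAttrib.useBackward true
set_option linter.style.haveILetI false

universe v u

open CategoryTheory CategoryTheory.Limits

namespace Groth.Agent.SpSeqFilCx

open SubobjQuot

variable {A : Type u} [Category.{v} A] [Abelian A]

theorem nonempty_iso_of_epi_same_kernel {W a b : A} (f : W ⟶ a) (g : W ⟶ b) [Epi f] [Epi g]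
    (h : ∀ ⦃Z : A⦄ (x : Z ⟶ W), x ≫ f = 0 ↔ x ≫ g = 0) : Nonempty (a ≅ b) := by
  refine ⟨⟨Abelian.epiDesc f g ((h _).1 (kernel.condition f)),
    Abelian.epiDesc g f ((h _).2 (kernel.condition g)), ?_, ?_⟩⟩
  · rw [← cancel_epi f, ← Category.assoc, Abelian.comp_epiDesc, Abelian.comp_epiDesc, Category.comp_id]
  · rw [← cancel_epi g, ← Category.assoc, Abelian.comp_epiDesc, Abelian.comp_epiDesc, Category.comp_id]

variable (K : SpSeq.FilCx A)

/-- The class of a cycle. -/
noncomputable abbrev cls {n : ℤ} {Z : A} (x : Z ⟶ K.obj.X n) (h : x ≫ K.obj.d n (n + 1) = 0) :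
    Z ⟶ K.obj.homology n :=
  K.obj.liftCycles x (n + 1) (by simp) h ≫ K.obj.homologyπ n

theorem comp_cls {n : ℤ} {Z Z' : A} (π : Z' ⟶ Z) (x : Z ⟶ K.obj.X n) (h : x ≫ K.obj.d n (n + 1) = 0) :
    π ≫ cls K x h = cls K (π ≫ x) (by rw [Category.assoc, h, comp_zero]) := by
  simp only [cls, HomologicalComplex.comp_liftCycles_assoc]

theorem cls_filH {p n : ℤ} {Z : A} {x : Z ⟶ K.obj.X n} (hx : (K.filX p n).Factors x)
    (h : x ≫ K.obj.d n (n + 1) = 0) : (K.filH p n).Factors (cls K x h) := by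
  obtain ⟨y, rfl⟩ := (filX_factors_iff K).1 hx
  have hy : y ≫ (K.fil p : CochainComplex A ℤ).d n (n + 1) = 0 := by
    rw [← cancel_mono ((K.fil p).arrow.f (n + 1)), Category.assoc,
      ← HomologicalComplex.Hom.comm, ← Category.assoc, h, zero_comp]
  have : cls K (y ≫ (K.fil p).arrow.f n) h =
      ((K.fil p : CochainComplex A ℤ).liftCycles y (n + 1) (by simp) hy ≫
        (K.fil p : CochainComplex A ℤ).homologyπ n) ≫ HomologicalComplex.homologyMap (K.fil p).arrow n := by
    simp only [cls, Category.assoc, HomologicalComplex.homologyπ_naturality,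
      HomologicalComplex.liftCycles_comp_cyclesMap_assoc]
  rw [this]
  exact image_factors_comp _

theorem exists_cls_of_filH {p n : ℤ} {Z : A} {γ : Z ⟶ K.obj.homology n} (hγ : (K.filH p n).Factors γ) :
    ∃ (Z' : A) (π : Z' ⟶ Z) (_ : Epi π) (x : Z' ⟶ K.obj.X n) (h : x ≫ K.obj.d n (n + 1) = 0),
      (K.filX p n).Factors x ∧ π ≫ γ = cls K x h := by
  obtain ⟨Z₁, π₁, hπ₁, t, ht⟩ := exists_of_factors_image _ hγ
  obtain ⟨Z₂, π₂, hπ₂, y, hy, ey⟩ :=
    (K.fil p : CochainComplex A ℤ).eq_liftCycles_homologyπ_up_to_refinements t (n + 1) (by simp)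
  refine ⟨Z₂, π₂ ≫ π₁, inferInstance, y ≫ (K.fil p).arrow.f n, ?_, (filX_factors_iff K).2 ⟨_, rfl⟩, ?_⟩
  · rw [Category.assoc, HomologicalComplex.Hom.comm, ← Category.assoc, hy, zero_comp]
  · rw [Category.assoc, ht, ← Category.assoc, ey]
    simp only [cls, Category.assoc, HomologicalComplex.homologyπ_naturality,
      HomologicalComplex.liftCycles_comp_cyclesMap_assoc]

theorem filH_succ_le (p n : ℤ) : K.filH (p + 1) n ≤ K.filH p n := K.filH_anti n (by omega)

theorem BBot_le_ZTop (p n : ℤ) : K.BBot p n ≤ K.ZTop p n :=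
  sup_le_sup_right (inf_le_inf_left _ (le_kernelSubobject _ _ (imageSubobject_arrow_comp_eq_zero (by simp)))) _

/-- `Z_∞ / B_∞` is the graded piece of the filtration on cohomology. -/
theorem nonempty_iso_gr (p n : ℤ) :
    Nonempty (SpSeq.subquot (K.ZTop p n) (K.BBot p n) (BBot_le_ZTop K p n) ≅
      SpSeq.subquot (K.filH p n) (K.filH (p + 1) n) (filH_succ_le K p n)) := by
  let W := K.filX p n ⊓ kernelSubobject (K.obj.d n (n + 1))
  have hW : ∀ {Z : A} {a : Z ⟶ K.obj.X n}, W.Factors a ↔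
      (K.filX p n).Factors a ∧ a ≫ K.obj.d n (n + 1) = 0 :=
    fun {Z a} => (Subobject.inf_factors _).trans (and_congr_right' (kernelSubobject_factors_iff _ _))
  obtain ⟨hWa, hWd⟩ := hW.1 (arrow_factors_of_le (le_refl W))
  let f := toSq (K.ZTop p n) (K.BBot p n) (BBot_le_ZTop K p n) W.arrow (arrow_factors_of_le le_sup_left)
  let g := toSq (K.filH p n) (K.filH (p + 1) n) (filH_succ_le K p n) (cls K W.arrow hWd) (cls_filH K hWa hWd)
  have hf : Epi f := by
    rw [epi_iff_surjective_up_to_refinements]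
    intro Z e
    obtain ⟨Z₁, π₁, hπ₁, x, hx, ex⟩ := toSq_surj (h := BBot_le_ZTop K p n) e
    obtain ⟨Z₂, π₂, hπ₂, a, b, ha, hda, hb, exab⟩ := ZTop_elim K hx
    refine ⟨Z₂, π₂ ≫ π₁, inferInstance, W.factorThru a (hW.2 ⟨ha, hda⟩), ?_⟩
    have ha' : (K.ZTop p n).Factors a := Subobject.sup_factors_of_factors_left (hW.2 ⟨ha, hda⟩)
    have hbB : (K.BBot p n).Factors b := Subobject.sup_factors_of_factors_right hb
    have hb' : (K.ZTop p n).Factors b := Subobject.factors_of_le _ (BBot_le_ZTop K p n) hbB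
    rw [Category.assoc, ex, comp_toSq, comp_toSq,
      toSq_congr (factors_comp π₂ hx) (Subobject.factors_add _ _ ha' hb') exab,
      toSq_add ha' hb', (toSq_eq_zero_iff _).2 hbB, add_zero]
    exact toSq_congr _ _ (Subobject.factorThru_arrow _ _ _).symm
  have hg : Epi g := by
    rw [epi_iff_surjective_up_to_refinements]
    intro Z e
    obtain ⟨Z₁, π₁, hπ₁, γ, hγ, eγ⟩ := toSq_surj (h := filH_succ_le K p n) e
    obtain ⟨Z₂, π₂, hπ₂, x, hdx, hx, ex⟩ := exists_cls_of_filH K hγ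
    refine ⟨Z₂, π₂ ≫ π₁, inferInstance, W.factorThru x (hW.2 ⟨hx, hdx⟩), ?_⟩
    rw [Category.assoc, eγ, comp_toSq, comp_toSq]
    refine toSq_congr _ _ ?_
    rw [ex, comp_cls]
    simp only [Subobject.factorThru_arrow]
  refine nonempty_iso_of_epi_same_kernel f g fun Z t => ?_
  rw [comp_toSq, toSq_eq_zero_iff, comp_toSq, toSq_eq_zero_iff]
  obtain ⟨hta, htd⟩ := hW.1 (show W.Factors (t ≫ W.arrow) from Subobject.factors_comp_arrow _)
  rw [comp_cls]
  constructor
  · intro h
    obtain ⟨Z₁, π₁, hπ₁, w, b, hdw, hb, e⟩ := BBot_elim K h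
    apply factors_of_epi_comp π₁
    have hdb : b ≫ K.obj.d n (n + 1) = 0 := by
      rw [show b = π₁ ≫ t ≫ W.arrow - w ≫ K.obj.d (n - 1) n by rw [e]; abel, Preadditive.sub_comp,
        Category.assoc, htd, comp_zero, Category.assoc, HomologicalComplex.d_comp_d, comp_zero, sub_zero]
    have : π₁ ≫ cls K (t ≫ W.arrow) htd = cls K b hdb := by
      rw [comp_cls]
      refine (K.obj.liftCycles_comp_homologyπ_eq_iff_up_to_refinements (n - 1) n (n + 1) (by simp) (by simp)
        _ _ _ _).2 ⟨Z₁, 𝟙 _, inferInstance, w, ?_⟩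
      rw [Category.id_comp, Category.id_comp, e, add_comm]
    rw [this]
    exact cls_filH K hb hdb
  · intro h
    obtain ⟨Z₁, π₁, hπ₁, x, hdx, hx, ex⟩ := exists_cls_of_filH K h
    rw [comp_cls] at ex
    obtain ⟨Z₂, π₂, hπ₂, w, ew⟩ :=
      (K.obj.liftCycles_comp_homologyπ_eq_iff_up_to_refinements (n - 1) n (n + 1) (by simp) (by simp)
        _ _ _ _).1 ex
    apply factors_of_epi_comp (π₂ ≫ π₁)
    have e' : (π₂ ≫ π₁) ≫ t ≫ W.arrow = w ≫ K.obj.d (n - 1) n + π₂ ≫ x := by
      rw [Category.assoc, ew, add_comm]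
    rw [e']
    refine BBot_mk K ?_ (factors_comp _ hx)
    rw [show w ≫ K.obj.d (n - 1) n = (π₂ ≫ π₁) ≫ (t ≫ W.arrow) - π₂ ≫ x by rw [e']; abel]
    exact factors_sub (factors_comp _ hta) (factors_comp _ (filX_mono K (by omega) hx))

section Serre

variable {P : ObjectProperty A} [P.IsClosedUnderIsomorphisms]
  (h0 : ∃ Z : A, IsZero Z ∧ P Z)
  (hP : ∀ S : ComposableArrows A 4, S.Exact → P (S.obj 0) → P (S.obj 1) → P (S.obj 3) → P (S.obj 4) → P (S.obj 2))

include h0 hP

theorem P_homology (hK : ∀ n : ℤ, (K.XFil n).IsFinite) (r : ℕ) (hr : ∀ p n : ℤ, P (K.E r p n)) (n : ℤ) :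
    P (K.obj.homology n) := by
  have h0' := fun m => isZero_homology_of_finite K hK m
  have h1' := fun m => isIso_homologyMap_of_finite K hK m
  have hinf : ∀ p, P (SpSeq.subquot (K.filH p n) (K.filH (p + 1) n) (filH_succ_le K p n)) := by
    intro p
    obtain ⟨r₁, hr₁⟩ := exists_ZSub_eq_ZTop K h0' p n
    obtain ⟨r₂, hr₂⟩ := exists_BSub_eq_BBot K h1' p n
    obtain ⟨e⟩ := nonempty_iso_gr K p n
    exact P.prop_of_iso e (toSq_eqToHom_prop (hr₁ _ (by omega)) (hr₂ _ (by omega))
      (P_page K h0 hP r hr (max r₁ r₂) p n))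
  obtain ⟨⟨a, ha⟩, b, hb⟩ := hFil_isFinite K h0' h1' n
  have key : ∀ k : ℕ, P (K.filH (b - k) n : A) := by
    intro k
    induction k with
    | zero =>
      refine P_of_isZero h0 hP ?_
      rw [show b - ((0 : ℕ) : ℤ) = b by simp]
      have : K.filH b n = ⊥ := hb
      rw [IsZero.iff_id_eq_zero, ← cancel_mono (K.filH b n).arrow, zero_comp, Category.id_comp]
      exact arrow_eq_zero_of_eq_bot this
    | succ k ih =>
      have h := hinf (b - (k + 1 : ℕ))
      let q := b - (k + 1 : ℕ)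
      have e : q + 1 = b - (k : ℕ) := by omega
      have hq : P (K.filH (q + 1) n : A) := by rw [e]; exact ih
      exact P_mid h0 hP (Subobject.ofLE _ _ (filH_succ_le K q n)) (cokernel.π _) (cokernel.condition _)
        (ShortComplex.exact_of_g_is_cokernel (ShortComplex.mk _ _ _) (cokernelIsCokernel _)) hq h
  have hab : P (K.filH (min a b) n : A) := by
    have := key (b - min a b).toNat
    rwa [show b - ((b - min a b).toNat : ℤ) = min a b by omega] at this
  have : K.filH (min a b) n = ⊤ := top_le_iff.1 (ha.ge.trans (K.filH_anti n (min_le_left a b)))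
  have hiso : IsIso (K.filH (min a b) n).arrow := by
    rw [Subobject.isIso_arrow_iff_eq_top]; exact this
  exact P.prop_of_iso (asIso (K.filH (min a b) n).arrow) hab

end Serre

end Groth.Agent.SpSeqFilCx
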