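import Groth.Prelude.Def_SpSeq
import Groth.Agent.SubobjQuot.Basic
import Mathlib.Algebra.Homology.Refinements
import Mathlib.CategoryTheory.Abelian.Refinements

/-!
Generalized elements of the subobjects `filX`, `ZSub`, `BSub`, `ZTop`, `BBot` of a filtered complex.
-/

set_option autoImplicit false
set_option backward.isDefEq.respectTransparency false
set_option backward.defeqAttrib.useBackward true
set_option linter.style.haveILetI false

universe v u

open CategoryTheory CategoryTheory.Limits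

namespace Groth.Agent.SpSeqFilCx

open SubobjQuot

variable {A : Type u} [Category.{v} A] [Abelian A]

section Subobj

variable {X Y : A}

theorem le_of_ref {S T : Subobject X}
    (h : ∀ ⦃Z : A⦄ (x : Z ⟶ X), S.Factors x → ∃ (Z' : A) (π : Z' ⟶ Z) (_ : Epi π), T.Factors (π ≫ x)) :
    S ≤ T := by
  obtain ⟨Z', π, hπ, h'⟩ := h S.arrow (arrow_factors_of_le le_rfl)
  exact le_of_factors (factors_of_epi_comp π _ h')

theorem le_of_elem {S T : Subobject X} (h : ∀ ⦃Z : A⦄ (x : Z ⟶ X), S.Factors x → T.Factors x) :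
    S ≤ T :=
  le_of_factors (h S.arrow (arrow_factors_of_le le_rfl))

theorem exists_of_factors_image {f : X ⟶ Y} {Z : A} (y : Z ⟶ Y) (hy : (imageSubobject f).Factors y) :
    ∃ (Z' : A) (π : Z' ⟶ Z) (_ : Epi π) (x : Z' ⟶ X), π ≫ y = x ≫ f := by
  obtain ⟨Z', π, hπ, x, hx⟩ := surjective_up_to_refinements_of_epi
    (factorThruImageSubobject f) ((imageSubobject f).factorThru y hy)
  refine ⟨Z', π, hπ, x, ?_⟩
  rw [← Subobject.factorThru_arrow (imageSubobject f) y hy, reassoc_of% hx, imageSubobject_arrow_comp]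

theorem image_factors_comp {f : X ⟶ Y} {Z : A} (x : Z ⟶ X) : (imageSubobject f).Factors (x ≫ f) :=
  imageSubobject_factors_comp_self f x

theorem subquot_isZero {S T : Subobject X} (h : T ≤ S) (h' : S ≤ T) :
    IsZero (SpSeq.subquot S T h) := by
  have : IsIso (Subobject.ofLE T S h) :=
    ⟨Subobject.ofLE S T h', by simp, by simp⟩
  exact isZero_cokernel_of_epi _

theorem subquot_π_eq_zero_iff {S T : Subobject X} (h : T ≤ S) {Z : A} (x : Z ⟶ (S : A)) :
    x ≫ cokernel.π (Subobject.ofLE T S h) = 0 ↔ T.Factors (x ≫ S.arrow) := by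
  constructor
  · intro h0
    rw [← Abelian.monoLift_comp (Subobject.ofLE T S h) x h0, Category.assoc, Subobject.ofLE_arrow]
    exact Subobject.factors_comp_arrow _
  · intro h0
    rw [show x = T.factorThru _ h0 ≫ Subobject.ofLE T S h by rw [← cancel_mono S.arrow]; simp,
      Category.assoc, cokernel.condition, comp_zero]

end Subobj

variable (K : SpSeq.FilCx A)

instance mono_arrow_f (p n : ℤ) : Mono ((K.fil p).arrow.f n) := inferInstance

theorem filX_factors_iff {p n : ℤ} {Z : A} {x : Z ⟶ K.obj.X n} :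
    (K.filX p n).Factors x ↔ ∃ y, y ≫ (K.fil p).arrow.f n = x :=
  Subobject.mk_factors_iff _ _

theorem filX_mono {p q n : ℤ} (h : p ≤ q) {Z : A} {x : Z ⟶ K.obj.X n} (hx : (K.filX q n).Factors x) :
    (K.filX p n).Factors x :=
  Subobject.factors_of_le _ (K.filX_anti n h) hx

theorem filX_d {p n : ℤ} (m : ℤ) {Z : A} {x : Z ⟶ K.obj.X n} (hx : (K.filX p n).Factors x) :
    (K.filX p m).Factors (x ≫ K.obj.d n m) := by
  obtain ⟨y, rfl⟩ := (filX_factors_iff K).1 hx
  rw [Category.assoc, HomologicalComplex.Hom.comm, ← Category.assoc]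
  exact (filX_factors_iff K).2 ⟨_, rfl⟩

section Members

variable {r : ℕ} {p n : ℤ} {Z : A}

theorem ZSub_mk {x y : Z ⟶ K.obj.X n} (hx : (K.filX p n).Factors x)
    (hdx : (K.filX (p + r) (n + 1)).Factors (x ≫ K.obj.d n (n + 1))) (hy : (K.filX (p + 1) n).Factors y) :
    (K.ZSub r p n).Factors (x + y) :=
  Subobject.factors_add _ _
    (Subobject.sup_factors_of_factors_left
      ((Subobject.inf_factors _).2 ⟨hx, (pullback_factors_iff _ _ _).2 hdx⟩))
    (Subobject.sup_factors_of_factors_right hy)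

theorem ZSub_elim {x : Z ⟶ K.obj.X n} (h : (K.ZSub r p n).Factors x) :
    ∃ (Z' : A) (π : Z' ⟶ Z) (_ : Epi π) (a b : Z' ⟶ K.obj.X n), (K.filX p n).Factors a ∧
      (K.filX (p + r) (n + 1)).Factors (a ≫ K.obj.d n (n + 1)) ∧ (K.filX (p + 1) n).Factors b ∧
      π ≫ x = a + b := by
  obtain ⟨Z', π, hπ, a, b, ha, hb, e⟩ := exists_of_factors_sup _ h
  exact ⟨Z', π, hπ, a, b, ((Subobject.inf_factors _).1 ha).1,
    (pullback_factors_iff _ _ _).1 ((Subobject.inf_factors _).1 ha).2, hb, e⟩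

theorem BSub_mk {w : Z ⟶ K.obj.X (n - 1)} {y : Z ⟶ K.obj.X n}
    (hw : (K.filX (p - r + 1) (n - 1)).Factors w) (hdw : (K.filX p n).Factors (w ≫ K.obj.d (n - 1) n))
    (hy : (K.filX (p + 1) n).Factors y) : (K.BSub r p n).Factors (w ≫ K.obj.d (n - 1) n + y) := by
  refine Subobject.factors_add _ _
    (Subobject.sup_factors_of_factors_left ((Subobject.inf_factors _).2 ⟨hdw, ?_⟩))
    (Subobject.sup_factors_of_factors_right hy)
  rw [← Subobject.factorThru_arrow _ w hw, Category.assoc]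
  exact image_factors_comp _

theorem BSub_elim {x : Z ⟶ K.obj.X n} (h : (K.BSub r p n).Factors x) :
    ∃ (Z' : A) (π : Z' ⟶ Z) (_ : Epi π) (w : Z' ⟶ K.obj.X (n - 1)) (b : Z' ⟶ K.obj.X n),
      (K.filX (p - r + 1) (n - 1)).Factors w ∧
      (K.filX p n).Factors (w ≫ K.obj.d (n - 1) n) ∧ (K.filX (p + 1) n).Factors b ∧
      π ≫ x = w ≫ K.obj.d (n - 1) n + b := by
  obtain ⟨Z₁, π₁, hπ₁, a, b, ha, hb, e⟩ := exists_of_factors_sup _ h
  obtain ⟨ha, ha'⟩ := (Subobject.inf_factors _).1 ha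
  obtain ⟨Z₂, π₂, hπ₂, t, ht⟩ := exists_of_factors_image _ ha'
  refine ⟨Z₂, π₂ ≫ π₁, inferInstance, t ≫ (K.filX (p - r + 1) (n - 1)).arrow, π₂ ≫ b,
    Subobject.factors_comp_arrow _, ?_, factors_comp π₂ hb, ?_⟩
  · rw [Category.assoc, ← ht]; exact factors_comp π₂ ha
  · rw [Category.assoc, e, Preadditive.comp_add, ht, Category.assoc]

theorem ZTop_mk {x y : Z ⟶ K.obj.X n} (hx : (K.filX p n).Factors x)
    (hdx : x ≫ K.obj.d n (n + 1) = 0) (hy : (K.filX (p + 1) n).Factors y) :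
    (K.ZTop p n).Factors (x + y) :=
  Subobject.factors_add _ _
    (Subobject.sup_factors_of_factors_left
      ((Subobject.inf_factors _).2 ⟨hx, kernelSubobject_factors _ _ hdx⟩))
    (Subobject.sup_factors_of_factors_right hy)

theorem ZTop_elim {x : Z ⟶ K.obj.X n} (h : (K.ZTop p n).Factors x) :
    ∃ (Z' : A) (π : Z' ⟶ Z) (_ : Epi π) (a b : Z' ⟶ K.obj.X n), (K.filX p n).Factors a ∧
      a ≫ K.obj.d n (n + 1) = 0 ∧ (K.filX (p + 1) n).Factors b ∧ π ≫ x = a + b := by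
  obtain ⟨Z', π, hπ, a, b, ha, hb, e⟩ := exists_of_factors_sup _ h
  exact ⟨Z', π, hπ, a, b, ((Subobject.inf_factors _).1 ha).1,
    (kernelSubobject_factors_iff _ _).1 ((Subobject.inf_factors _).1 ha).2, hb, e⟩

theorem BBot_mk {w : Z ⟶ K.obj.X (n - 1)} {y : Z ⟶ K.obj.X n}
    (hdw : (K.filX p n).Factors (w ≫ K.obj.d (n - 1) n)) (hy : (K.filX (p + 1) n).Factors y) :
    (K.BBot p n).Factors (w ≫ K.obj.d (n - 1) n + y) :=
  Subobject.factors_add _ _
    (Subobject.sup_factors_of_factors_left ((Subobject.inf_factors _).2 ⟨hdw, image_factors_comp _⟩))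
    (Subobject.sup_factors_of_factors_right hy)

theorem BBot_elim {x : Z ⟶ K.obj.X n} (h : (K.BBot p n).Factors x) :
    ∃ (Z' : A) (π : Z' ⟶ Z) (_ : Epi π) (w : Z' ⟶ K.obj.X (n - 1)) (b : Z' ⟶ K.obj.X n),
      (K.filX p n).Factors (w ≫ K.obj.d (n - 1) n) ∧ (K.filX (p + 1) n).Factors b ∧
      π ≫ x = w ≫ K.obj.d (n - 1) n + b := by
  obtain ⟨Z₁, π₁, hπ₁, a, b, ha, hb, e⟩ := exists_of_factors_sup _ h
  obtain ⟨ha, ha'⟩ := (Subobject.inf_factors _).1 ha
  obtain ⟨Z₂, π₂, hπ₂, t, ht⟩ := exists_of_factors_image _ ha'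
  refine ⟨Z₂, π₂ ≫ π₁, inferInstance, t, π₂ ≫ b, ?_, factors_comp π₂ hb, ?_⟩
  · rw [← ht]; exact factors_comp π₂ ha
  · rw [Category.assoc, e, Preadditive.comp_add, ht]

end Members

section Lifting

variable {p n : ℤ} {Z : A}

/-- A cycle in `F^p` is a boundary in `F^p`, up to refinement, if `H^n(F^p) = 0`. -/
theorem exists_boundary_of_isZero (h : IsZero ((K.fil p : CochainComplex A ℤ).homology n))
    {x : Z ⟶ K.obj.X n} (hx : (K.filX p n).Factors x) (hdx : x ≫ K.obj.d n (n + 1) = 0) :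
    ∃ (Z' : A) (π : Z' ⟶ Z) (_ : Epi π) (w : Z' ⟶ K.obj.X (n - 1)),
      (K.filX p (n - 1)).Factors w ∧ π ≫ x = w ≫ K.obj.d (n - 1) n := by
  obtain ⟨y, rfl⟩ := (filX_factors_iff K).1 hx
  have hy : y ≫ (K.fil p : CochainComplex A ℤ).d n (n + 1) = 0 := by
    rw [← cancel_mono ((K.fil p).arrow.f (n + 1)), Category.assoc,
      ← HomologicalComplex.Hom.comm, ← Category.assoc, hdx, zero_comp]
  obtain ⟨Z', π, hπ, w, hw⟩ :=
    ((HomologicalComplex.exactAt_iff_exact_up_to_refinements _ (n - 1) n (n + 1) (by simp) (by simp)).1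
      ((HomologicalComplex.exactAt_iff_isZero_homology _ _).2 h)) y hy
  refine ⟨Z', π, hπ, w ≫ (K.fil p).arrow.f (n - 1), (filX_factors_iff K).2 ⟨_, rfl⟩, ?_⟩
  rw [Category.assoc, HomologicalComplex.Hom.comm, ← Category.assoc, ← Category.assoc, hw]

/-- A cycle in `F^p` which is a boundary in `K` is a boundary in `F^p`, up to refinement, if
`H^n(F^p) → H^n(K)` is a monomorphism. -/
theorem exists_boundary_of_mono [Mono (HomologicalComplex.homologyMap (K.fil p).arrow n)]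
    {x : Z ⟶ K.obj.X n} (hx : (K.filX p n).Factors x) {w : Z ⟶ K.obj.X (n - 1)}
    (hw : x = w ≫ K.obj.d (n - 1) n) :
    ∃ (Z' : A) (π : Z' ⟶ Z) (_ : Epi π) (w' : Z' ⟶ K.obj.X (n - 1)),
      (K.filX p (n - 1)).Factors w' ∧ π ≫ x = w' ≫ K.obj.d (n - 1) n := by
  obtain ⟨y, hy'⟩ := (filX_factors_iff K).1 hx
  have hy : y ≫ (K.fil p : CochainComplex A ℤ).d n (n + 1) = 0 := by
    rw [← cancel_mono ((K.fil p).arrow.f (n + 1)), Category.assoc,
      ← HomologicalComplex.Hom.comm, ← Category.assoc, hy', hw, Category.assoc,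
      HomologicalComplex.d_comp_d, comp_zero, zero_comp]
  obtain ⟨Z', π, hπ, v, hv⟩ :=
    ((HomologicalComplex.mono_homologyMap_iff_up_to_refinements (K.fil p).arrow (n - 1) n (n + 1)
      (by simp) (by simp)).1 inferInstance) y hy w (hy'.trans hw)
  refine ⟨Z', π, hπ, v ≫ (K.fil p).arrow.f (n - 1), (filX_factors_iff K).2 ⟨_, rfl⟩, ?_⟩
  rw [← hy', Category.assoc, HomologicalComplex.Hom.comm, ← Category.assoc, ← Category.assoc, hv]

/-- A cycle of `K` is, up to refinement, a cycle of `F^p` plus a boundary, if `H^n(F^p) → H^n(K)` is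
an epimorphism. -/
theorem exists_decomp_of_epi [Epi (HomologicalComplex.homologyMap (K.fil p).arrow n)]
    {x : Z ⟶ K.obj.X n} (hdx : x ≫ K.obj.d n (n + 1) = 0) :
    ∃ (Z' : A) (π : Z' ⟶ Z) (_ : Epi π) (z : Z' ⟶ K.obj.X n) (w : Z' ⟶ K.obj.X (n - 1)),
      (K.filX p n).Factors z ∧ z ≫ K.obj.d n (n + 1) = 0 ∧ π ≫ x = z + w ≫ K.obj.d (n - 1) n := by
  obtain ⟨Z', π, hπ, y, hy, w, e⟩ :=
    ((HomologicalComplex.epi_homologyMap_iff_up_to_refinements (K.fil p).arrow (n - 1) n (n + 1)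
      (by simp) (by simp)).1 inferInstance) x hdx
  refine ⟨Z', π, hπ, y ≫ (K.fil p).arrow.f n, w, (filX_factors_iff K).2 ⟨_, rfl⟩, ?_, e⟩
  rw [Category.assoc, HomologicalComplex.Hom.comm, ← Category.assoc, hy, zero_comp]

end Lifting

end Groth.Agent.SpSeqFilCx
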