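import Groth.Agent.SpSeqFilCx.Subquot
import Groth.Agent.SpSeqFilCx.Converge

/-!
Passing from a page to the next one, and from `E_∞` to the cohomology, inside a weak Serre class.
-/

set_option autoImplicit false
set_option backward.isDefEq.respectTransparency false
set_option backward.defeqAttrib.useBackward true
set_option linter.style.haveILetI false

universe v u

open CategoryTheory CategoryTheory.Limits

namespace Groth.Agent.SpSeqFilCx

open SubobjQuot

variable {A : Type u} [Category.{v} A] [Abelian A] (K : SpSeq.FilCx A)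

theorem ZSub_succ_le (r : ℕ) (p n : ℤ) : K.ZSub (r + 1) p n ≤ K.ZSub r p n :=
  sup_le_sup_right (inf_le_inf_left _ ((Subobject.pullback _).map
    (homOfLE (K.filX_anti (n + 1) (by omega)))).le) _

theorem BSub_le_succ (r : ℕ) (p n : ℤ) : K.BSub r p n ≤ K.BSub (r + 1) p n := by
  refine sup_le_sup_right (inf_le_inf_left _ ?_) _
  have h : K.filX (p - r + 1) (n - 1) ≤ K.filX (p - (r + 1 : ℕ) + 1) (n - 1) := K.filX_anti _ (by omega)
  exact SpSeq.FilCx.imageSubobject_le_of_fac (Subobject.ofLE _ _ h) (by rw [Subobject.ofLE_arrow_assoc])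

theorem BSub_le_ZSub_succ (r : ℕ) (p n : ℤ) : K.BSub r p n ≤ K.ZSub (r + 1) p n :=
  (BSub_le_succ K r p n).trans (K.BSub_le_ZSub (r + 1) p n)

theorem E_step (r : ℕ) {p n q m : ℤ} (hq : q = p + r) (hm : m = n + 1) :
    ∃ δ : SpSeq.subquot (K.ZSub r p n) (K.BSub r p n) (K.BSub_le_ZSub r p n) ⟶ SpSeq.subquot (K.BSub (r + 1) q m) (K.BSub r q m) (BSub_le_succ K r q m),
      Epi δ ∧ ∃ w : sqMap (BSub_le_ZSub_succ K r p n) (K.BSub_le_ZSub r p n) (ZSub_succ_le K r p n) le_rfl ≫ δ = 0,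
        (ShortComplex.mk _ _ w).Exact := by
  subst hq hm
  let W := K.filX p n ⊓ (Subobject.pullback (K.obj.d n (n + 1))).obj (K.filX (p + r) (n + 1))
  have hW : ∀ {Z : A} {a : Z ⟶ K.obj.X n}, W.Factors a ↔ (K.filX p n).Factors a ∧
      (K.filX (p + r) (n + 1)).Factors (a ≫ K.obj.d n (n + 1)) :=
    fun {Z a} => (Subobject.inf_factors _).trans (and_congr_right' (pullback_factors_iff _ _ _))
  have hWZ : W ≤ K.ZSub r p n := le_sup_left
  have hdB : ∀ {Z : A} {a : Z ⟶ K.obj.X n}, (K.filX p n).Factors a →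
      (K.filX (p + r) (n + 1)).Factors (a ≫ K.obj.d n (n + 1)) →
      (K.BSub (r + 1) (p + r) (n + 1)).Factors (a ≫ K.obj.d n (n + 1)) := by
    intro Z a
    have key : ∀ (k : ℤ), k = n → ∀ a : Z ⟶ K.obj.X k, (K.filX p k).Factors a →
        (K.filX (p + r) (n + 1)).Factors (a ≫ K.obj.d k (n + 1)) →
        (K.BSub (r + 1) (p + r) (n + 1)).Factors (a ≫ K.obj.d k (n + 1)) := by
      intro k hk
      obtain rfl : k = n + 1 - 1 := by omega
      intro a ha hda
      rw [← add_zero (a ≫ K.obj.d (n + 1 - 1) (n + 1))]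
      exact BSub_mk K (filX_mono K (by omega) ha) hda
        ((filX_factors_iff K).2 ⟨0, zero_comp⟩)
    exact key n rfl a
  have hWd : (K.BSub (r + 1) (p + r) (n + 1)).Factors (W.arrow ≫ K.obj.d n (n + 1)) := by
    obtain ⟨h1, h2⟩ := hW.1 (arrow_factors_of_le (le_refl W))
    exact hdB h1 h2
  let φ : (W : A) ⟶ SpSeq.subquot (K.ZSub r p n) (K.BSub r p n) (K.BSub_le_ZSub r p n) :=
    toSq (K.ZSub r p n) (K.BSub r p n) (K.BSub_le_ZSub r p n) W.arrow (arrow_factors_of_le hWZ)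
  let ψ := toSq (K.BSub (r + 1) (p + r) (n + 1)) (K.BSub r (p + r) (n + 1))
    (BSub_le_succ K r (p + r) (n + 1)) (W.arrow ≫ K.obj.d n (n + 1)) hWd
  have hφ : Epi φ := by
    rw [epi_iff_surjective_up_to_refinements]
    intro Z e
    obtain ⟨Z₁, π₁, hπ₁, x, hx, ex⟩ := toSq_surj (h := K.BSub_le_ZSub r p n) e
    obtain ⟨Z₂, π₂, hπ₂, a, b, ha, hda, hb, exab⟩ := ZSub_elim K hx
    refine ⟨Z₂, π₂ ≫ π₁, inferInstance, W.factorThru a (hW.2 ⟨ha, hda⟩), ?_⟩
    have hbB : (K.BSub r p n).Factors b := Subobject.sup_factors_of_factors_right hb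
    rw [Category.assoc, ex, comp_toSq, comp_toSq,
      toSq_congr (factors_comp π₂ hx) (Subobject.factors_add _ _ (Subobject.factors_of_le _ hWZ (hW.2 ⟨ha, hda⟩))
        (Subobject.factors_of_le _ (K.BSub_le_ZSub r p n) hbB)) exab,
      toSq_add (Subobject.factors_of_le _ hWZ (hW.2 ⟨ha, hda⟩)) (Subobject.factors_of_le _ (K.BSub_le_ZSub r p n) hbB), (toSq_eq_zero_iff _).2 hbB, add_zero]
    exact toSq_congr _ _ (Subobject.factorThru_arrow _ _ _).symm
  have hker : kernel.ι φ ≫ ψ = 0 := by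
    have h0 : kernel.ι φ ≫ φ = 0 := kernel.condition φ
    rw [comp_toSq, toSq_eq_zero_iff] at h0
    rw [comp_toSq, toSq_eq_zero_iff]
    obtain ⟨ha, hda⟩ := hW.1 (show W.Factors (kernel.ι φ ≫ W.arrow) from Subobject.factors_comp_arrow _)
    obtain ⟨Z₁, π₁, hπ₁, w, b, hw, hdw, hb, e⟩ := BSub_elim K h0
    apply factors_of_epi_comp π₁
    rw [show π₁ ≫ kernel.ι φ ≫ W.arrow ≫ K.obj.d n (n + 1) =
      (π₁ ≫ kernel.ι φ ≫ W.arrow) ≫ K.obj.d n (n + 1) by simp only [Category.assoc]]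
    rw [e, Preadditive.add_comp, Category.assoc, HomologicalComplex.d_comp_d, comp_zero, zero_add]
    have hdb : (K.filX (p + r) (n + 1)).Factors (b ≫ K.obj.d n (n + 1)) := by
      have : b ≫ K.obj.d n (n + 1) = π₁ ≫ (kernel.ι φ ≫ W.arrow) ≫ K.obj.d n (n + 1) := by
        rw [show π₁ ≫ (kernel.ι φ ≫ W.arrow) ≫ K.obj.d n (n + 1) =
          (π₁ ≫ kernel.ι φ ≫ W.arrow) ≫ K.obj.d n (n + 1) by simp only [Category.assoc],
          e, Preadditive.add_comp, Category.assoc, HomologicalComplex.d_comp_d,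
          comp_zero, zero_add]
      rw [this]
      exact factors_comp _ hda
    have key : ∀ (k : ℤ), k = n → ∀ b : Z₁ ⟶ K.obj.X k, (K.filX (p + 1) k).Factors b →
        (K.filX (p + r) (n + 1)).Factors (b ≫ K.obj.d k (n + 1)) →
        (K.BSub r (p + r) (n + 1)).Factors (b ≫ K.obj.d k (n + 1)) := by
      intro k hk
      obtain rfl : k = n + 1 - 1 := by omega
      intro b hb hdb
      rw [← add_zero (b ≫ K.obj.d (n + 1 - 1) (n + 1))]
      exact BSub_mk K (filX_mono K (by omega) hb) hdb ((filX_factors_iff K).2 ⟨0, zero_comp⟩)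
    exact key n rfl b hb hdb
  let δ := Abelian.epiDesc φ ψ hker
  have hδ : φ ≫ δ = ψ := Abelian.comp_epiDesc φ ψ hker
  have hψ : Epi ψ := by
    rw [epi_iff_surjective_up_to_refinements]
    intro Z e
    obtain ⟨Z₁, π₁, hπ₁, x, hx, ex⟩ := toSq_surj (h := BSub_le_succ K r (p + r) (n + 1)) e
    obtain ⟨Z₂, π₂, hπ₂, w, b, hw, hdw, hb, exw⟩ := BSub_elim K hx
    obtain ⟨a, ha, hda, ea⟩ : ∃ a : Z₂ ⟶ K.obj.X n, (K.filX p n).Factors a ∧
        (K.filX (p + r) (n + 1)).Factors (a ≫ K.obj.d n (n + 1)) ∧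
        a ≫ K.obj.d n (n + 1) = w ≫ K.obj.d (n + 1 - 1) (n + 1) := by
      have key : ∀ (k : ℤ), k = n → ∀ w : Z₂ ⟶ K.obj.X k, (K.filX p k).Factors w →
          (K.filX (p + r) (n + 1)).Factors (w ≫ K.obj.d k (n + 1)) →
          ∃ a : Z₂ ⟶ K.obj.X n, (K.filX p n).Factors a ∧
            (K.filX (p + r) (n + 1)).Factors (a ≫ K.obj.d n (n + 1)) ∧
            a ≫ K.obj.d n (n + 1) = w ≫ K.obj.d k (n + 1) := by
        rintro k rfl w hw hdw; exact ⟨w, hw, hdw, rfl⟩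
      exact key _ (by omega) w (filX_mono K (by omega) hw) hdw
    refine ⟨Z₂, π₂ ≫ π₁, inferInstance, W.factorThru a (hW.2 ⟨ha, hda⟩), ?_⟩
    have hbB : (K.BSub r (p + r) (n + 1)).Factors b := Subobject.sup_factors_of_factors_right hb
    rw [← ea] at exw
    rw [Category.assoc, ex, comp_toSq, comp_toSq,
      toSq_congr (factors_comp π₂ hx) (Subobject.factors_add _ _ (hdB ha hda)
        (Subobject.factors_of_le _ (BSub_le_succ K r _ _) hbB)) exw,
      toSq_add (hdB ha hda) (Subobject.factors_of_le _ (BSub_le_succ K r _ _) hbB), (toSq_eq_zero_iff _).2 hbB, add_zero]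
    exact toSq_congr _ _ (by rw [Subobject.factorThru_arrow_assoc])
  have hιφ : ∀ {Z : A} {x : Z ⟶ K.obj.X n} (hx : (K.ZSub (r + 1) p n).Factors x),
      toSq (K.ZSub r p n) (K.BSub r p n) (K.BSub_le_ZSub r p n) x
        (Subobject.factors_of_le _ (ZSub_succ_le K r p n) hx) ≫ δ = 0 := by
    intro Z x hx
    obtain ⟨Z₁, π₁, hπ₁, a, b, ha, hda, hb, e⟩ := ZSub_elim K hx
    apply zero_of_epi_comp π₁
    have hbB : (K.BSub r p n).Factors b := Subobject.sup_factors_of_factors_right hb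
    have hda' : (K.filX (p + r) (n + 1)).Factors (a ≫ K.obj.d n (n + 1)) := filX_mono K (by omega) hda
    rw [← Category.assoc, comp_toSq,
      toSq_congr (factors_comp π₁ (Subobject.factors_of_le _ (ZSub_succ_le K r p n) hx)) (Subobject.factors_add _ _ (Subobject.factors_of_le _ hWZ (hW.2 ⟨ha, hda'⟩))
        (Subobject.factors_of_le _ (K.BSub_le_ZSub r p n) hbB)) e,
      toSq_add (Subobject.factors_of_le _ hWZ (hW.2 ⟨ha, hda'⟩)) (Subobject.factors_of_le _ (K.BSub_le_ZSub r p n) hbB), (toSq_eq_zero_iff _).2 hbB, add_zero]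
    have e' : toSq (K.ZSub r p n) (K.BSub r p n) (K.BSub_le_ZSub r p n) a
        (Subobject.factors_of_le _ hWZ (hW.2 ⟨ha, hda'⟩)) = W.factorThru a (hW.2 ⟨ha, hda'⟩) ≫ φ := by
      rw [comp_toSq]
      exact toSq_congr _ _ (Subobject.factorThru_arrow _ _ _).symm
    rw [e', Category.assoc, hδ, comp_toSq, toSq_eq_zero_iff, Subobject.factorThru_arrow_assoc]
    exact Subobject.sup_factors_of_factors_right (filX_mono K (by omega) hda)
  have hw0 : sqMap (BSub_le_ZSub_succ K r p n) (K.BSub_le_ZSub r p n) (ZSub_succ_le K r p n) le_rfl ≫ δ = 0 := by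
    refine (cancel_epi (cokernel.π (Subobject.ofLE _ _ (BSub_le_ZSub_succ K r p n)))).1 ?_
    have hx : (K.ZSub (r + 1) p n).Factors (K.ZSub (r + 1) p n).arrow := arrow_factors_of_le le_rfl
    have e : cokernel.π (Subobject.ofLE _ _ (BSub_le_ZSub_succ K r p n)) =
        toSq _ _ (BSub_le_ZSub_succ K r p n) _ hx := by
      rw [toSq, show Subobject.factorThru _ _ hx = 𝟙 _ by rw [← cancel_mono (K.ZSub (r + 1) p n).arrow]; simp,
        Category.id_comp]
    rw [comp_zero, e, ← Category.assoc, toSq_sqMap]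
    exact hιφ hx
  have hδepi : Epi δ := by
    have : Epi (φ ≫ δ) := by rw [hδ]; exact hψ
    exact epi_of_epi φ δ
  refine ⟨δ, hδepi, hw0, ?_⟩
  rw [ShortComplex.exact_iff_exact_up_to_refinements]
  intro Z e he
  dsimp at e he ⊢
  obtain ⟨Z₁, π₁, hπ₁, t, ht⟩ := surjective_up_to_refinements_of_epi φ e
  have h0 : t ≫ ψ = 0 := by rw [← hδ, ← Category.assoc, ← ht, Category.assoc, he, comp_zero]
  rw [comp_toSq, toSq_eq_zero_iff] at h0
  obtain ⟨ha, hda⟩ := hW.1 (show W.Factors (t ≫ W.arrow) from Subobject.factors_comp_arrow _)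
  obtain ⟨Z₂, π₂, hπ₂, w, b, hw, hdw, hb, ew⟩ := BSub_elim K h0
  obtain ⟨u, hu, eu⟩ : ∃ u : Z₂ ⟶ K.obj.X n, (K.filX (p + 1) n).Factors u ∧
      u ≫ K.obj.d n (n + 1) = w ≫ K.obj.d (n + 1 - 1) (n + 1) := by
    have key : ∀ (k : ℤ), k = n → ∀ w : Z₂ ⟶ K.obj.X k, (K.filX (p + 1) k).Factors w →
        ∃ u : Z₂ ⟶ K.obj.X n, (K.filX (p + 1) n).Factors u ∧
          u ≫ K.obj.d n (n + 1) = w ≫ K.obj.d k (n + 1) := by
      rintro k rfl w hw; exact ⟨w, hw, rfl⟩
    exact key _ (by omega) w (filX_mono K (by omega) hw)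
  have hd : (K.filX (p + (r + 1 : ℕ)) (n + 1)).Factors ((π₂ ≫ t ≫ W.arrow - u) ≫ K.obj.d n (n + 1)) := by
    have e1 : (π₂ ≫ t ≫ W.arrow) ≫ K.obj.d n (n + 1) = w ≫ K.obj.d (n + 1 - 1) (n + 1) + b := by
      rw [← ew]; simp only [Category.assoc]
    rw [Preadditive.sub_comp, eu, e1, add_sub_cancel_left]
    exact filX_mono K (by omega) hb
  have hz : (K.ZSub (r + 1) p n).Factors (π₂ ≫ t ≫ W.arrow) := by
    rw [show π₂ ≫ t ≫ W.arrow = (π₂ ≫ t ≫ W.arrow - u) + u by abel]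
    exact ZSub_mk K (factors_sub (factors_comp _ ha) (filX_mono K (by omega) hu)) hd hu
  refine ⟨Z₂, π₂ ≫ π₁, inferInstance, toSq _ _ (BSub_le_ZSub_succ K r p n) _ hz, ?_⟩
  rw [Category.assoc, ht, comp_toSq, comp_toSq, toSq_sqMap]

theorem toSq_eqToHom_prop {P : ObjectProperty A} {X : A} {S T S' T' : Subobject X} {h : T ≤ S} {h' : T' ≤ S'}
    (eS : S = S') (eT : T = T') (hPE : P (SpSeq.subquot S T h)) : P (SpSeq.subquot S' T' h') := by
  subst eS eT; exact hPE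

section Serre

variable {P : ObjectProperty A}
  (h0 : ∃ Z : A, IsZero Z ∧ P Z)
  (hP : ∀ S : ComposableArrows A 4, S.Exact → P (S.obj 0) → P (S.obj 1) → P (S.obj 3) → P (S.obj 4) → P (S.obj 2))

include h0 hP

theorem P_page_succ (r : ℕ) (hr : ∀ p n : ℤ, P (K.E r p n)) (p n : ℤ) : P (K.E (r + 1) p n) := by
  have hQ : ∀ p n : ℤ, P (SpSeq.subquot (K.ZSub (r + 1) p n) (K.BSub r p n) (BSub_le_ZSub_succ K r p n)) := by
    intro p n
    obtain ⟨δ, hδ, w, hex⟩ := E_step K r (p := p) (n := n) rfl rfl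
    have := mono_sqMap (BSub_le_ZSub_succ K r p n) (K.BSub_le_ZSub r p n) (ZSub_succ_le K r p n)
    let ι := sqMap (BSub_le_succ K r (p + r) (n + 1)) (K.BSub_le_ZSub r (p + r) (n + 1))
      ((K.BSub_le_ZSub (r + 1) _ _).trans (ZSub_succ_le K r _ _)) le_rfl
    have : Mono ι := mono_sqMap _ _ _
    refine P_left h0 hP (sqMap (BSub_le_ZSub_succ K r p n) (K.BSub_le_ZSub r p n) (ZSub_succ_le K r p n) le_rfl)
      (δ ≫ ι) ((Category.assoc _ _ _).symm.trans ((congrArg (· ≫ ι) w).trans zero_comp)) ?_ (hr p n) (hr (p + r) (n + 1))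
    rw [ShortComplex.exact_iff_exact_up_to_refinements] at hex ⊢
    intro Z e he
    dsimp at e he
    exact hex e ((cancel_mono ι).1 ((Category.assoc _ _ _).trans (he.trans zero_comp.symm)))
  have hJ : P (SpSeq.subquot (K.BSub (r + 1) p n) (K.BSub r p n) (BSub_le_succ K r p n)) := by
    obtain ⟨δ, hδ, w, hex⟩ := E_step K r (p := p - r) (n := n - 1) (q := p) (m := n) (by omega) (by omega)
    exact P_right h0 hP _ δ w hex (hQ _ _) (hr _ _)
  have := mono_sqMap (BSub_le_succ K r p n) (BSub_le_ZSub_succ K r p n) (K.BSub_le_ZSub (r + 1) p n)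
  have := epi_sqMap (BSub_le_ZSub_succ K r p n) (K.BSub_le_ZSub (r + 1) p n) (BSub_le_succ K r p n)
  exact P_right h0 hP _ _ _ (exact_sqMap (BSub_le_succ K r p n) (K.BSub_le_ZSub (r + 1) p n)) hJ (hQ p n)

theorem P_page (r : ℕ) (hr : ∀ p n : ℤ, P (K.E r p n)) :
    ∀ (k : ℕ) (p n : ℤ), P (K.E (r + k) p n)
  | 0 => hr
  | k + 1 => P_page_succ K h0 hP (r + k) (P_page r hr k)

end Serre

end Groth.Agent.SpSeqFilCx
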