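import Groth.Agent.SpSeqFilCx.Basic
import Mathlib.Algebra.Homology.ExactSequence
import Mathlib.CategoryTheory.ObjectProperty.ClosedUnderIsomorphisms

/-!
Generalized elements of subquotients of subobjects, and weak Serre classes.
-/

set_option autoImplicit false
set_option backward.isDefEq.respectTransparency false
set_option backward.defeqAttrib.useBackward true
set_option linter.style.haveILetI false

universe v u

open CategoryTheory CategoryTheory.Limits

namespace Groth.Agent.SpSeqFilCx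

open SubobjQuot

variable {A : Type u} [Category.{v} A] [Abelian A] {X : A}

/-- The element of `S / T` given by an element of `S`. -/
noncomputable def toSq (S T : Subobject X) (h : T ≤ S) {Z : A} (x : Z ⟶ X) (hx : S.Factors x) :
    Z ⟶ SpSeq.subquot S T h :=
  S.factorThru x hx ≫ cokernel.π _

theorem comp_toSq {S T : Subobject X} {h : T ≤ S} {Z Z' : A} (π : Z' ⟶ Z) {x : Z ⟶ X} (hx : S.Factors x) :
    π ≫ toSq S T h x hx = toSq S T h (π ≫ x) (factors_comp π hx) := by
  unfold toSq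
  rw [← Category.assoc]
  congr 1
  rw [← cancel_mono S.arrow]
  simp

theorem toSq_congr {S T : Subobject X} {h : T ≤ S} {Z : A} {x y : Z ⟶ X} (hx : S.Factors x)
    (hy : S.Factors y) (e : x = y) : toSq S T h x hx = toSq S T h y hy := by
  subst e; rfl

theorem toSq_add {S T : Subobject X} {h : T ≤ S} {Z : A} {x y : Z ⟶ X} (hx : S.Factors x)
    (hy : S.Factors y) :
    toSq S T h (x + y) (Subobject.factors_add _ _ hx hy) = toSq S T h x hx + toSq S T h y hy := by
  unfold toSq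
  rw [← Preadditive.add_comp]
  congr 1
  rw [← cancel_mono S.arrow]
  simp

theorem toSq_eq_zero_iff {S T : Subobject X} {h : T ≤ S} {Z : A} {x : Z ⟶ X} (hx : S.Factors x) :
    toSq S T h x hx = 0 ↔ T.Factors x := by
  have e := subquot_π_eq_zero_iff h (S.factorThru x hx)
  rw [Subobject.factorThru_arrow] at e
  exact e

theorem toSq_surj {S T : Subobject X} {h : T ≤ S} {Z : A} (e : Z ⟶ SpSeq.subquot S T h) :
    ∃ (Z' : A) (π : Z' ⟶ Z) (_ : Epi π) (x : Z' ⟶ X) (hx : S.Factors x), π ≫ e = toSq S T h x hx := by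
  obtain ⟨Z', π, hπ, t, ht⟩ := surjective_up_to_refinements_of_epi
    (cokernel.π (Subobject.ofLE T S h)) e
  refine ⟨Z', π, hπ, t ≫ S.arrow, Subobject.factors_comp_arrow _, ?_⟩
  rw [ht]
  unfold toSq
  congr 1
  rw [← cancel_mono S.arrow]
  simp

/-- The map of subquotients induced by inclusions. -/
noncomputable def sqMap {S T S' T' : Subobject X} (h : T ≤ S) (h' : T' ≤ S') (hS : S ≤ S') (hT : T ≤ T') :
    SpSeq.subquot S T h ⟶ SpSeq.subquot S' T' h' :=
  cokernel.map _ _ (Subobject.ofLE T T' hT) (Subobject.ofLE S S' hS) (by simp)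

theorem toSq_sqMap {S T S' T' : Subobject X} (h : T ≤ S) (h' : T' ≤ S') (hS : S ≤ S') (hT : T ≤ T')
    {Z : A} {x : Z ⟶ X} (hx : S.Factors x) :
    toSq S T h x hx ≫ sqMap h h' hS hT = toSq S' T' h' x (Subobject.factors_of_le _ hS hx) := by
  unfold toSq sqMap
  rw [Category.assoc, cokernel.π_desc, ← Category.assoc]
  congr 1
  rw [← cancel_mono S'.arrow]
  simp

theorem mono_sqMap {S T S' : Subobject X} (h : T ≤ S) (h' : T ≤ S') (hS : S ≤ S') :
    Mono (sqMap h h' hS le_rfl) := by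
  rw [Preadditive.mono_iff_cancel_zero]
  intro Z e he
  obtain ⟨Z', π, hπ, x, hx, ex⟩ := toSq_surj e
  apply zero_of_epi_comp π
  have he' : toSq S T h x hx ≫ sqMap h h' hS le_rfl = 0 := by
    rw [← ex, Category.assoc, he, comp_zero]
  rw [toSq_sqMap, toSq_eq_zero_iff] at he'
  rw [ex, toSq_eq_zero_iff]
  exact he'

theorem epi_sqMap {S T T' : Subobject X} (h : T ≤ S) (h' : T' ≤ S) (hT : T ≤ T') :
    Epi (sqMap h h' le_rfl hT) := by
  rw [epi_iff_surjective_up_to_refinements]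
  intro Z e
  obtain ⟨Z', π, hπ, x, hx, ex⟩ := toSq_surj e
  exact ⟨Z', π, hπ, toSq S T h x hx, by rw [ex, toSq_sqMap]⟩

theorem sqMap_comp_zero {S T S' : Subobject X} (h : T ≤ S) (hS : S ≤ S') :
    sqMap h (h.trans hS) hS le_rfl ≫ sqMap (h.trans hS) hS le_rfl h = 0 := by
  rw [← cancel_epi (cokernel.π (Subobject.ofLE T S h))]
  simp only [sqMap, cokernel.π_desc_assoc, cokernel.π_desc, Category.assoc, comp_zero]
  rw [Subobject.ofLE_comp_ofLE_assoc, cokernel.condition]

/-- `0 → S/T → S'/T → S'/S → 0` is exact in the middle. -/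
theorem exact_sqMap {S T S' : Subobject X} (h : T ≤ S) (hS : S ≤ S') :
    (ShortComplex.mk _ _ (sqMap_comp_zero h hS)).Exact := by
  rw [ShortComplex.exact_iff_exact_up_to_refinements]
  intro Z e he
  dsimp at e he ⊢
  obtain ⟨Z', π, hπ, x, hx, ex⟩ := toSq_surj e
  have he' : toSq S' T (h.trans hS) x hx ≫ sqMap (h.trans hS) hS le_rfl h = 0 := by
    rw [← ex, Category.assoc, he, comp_zero]
  rw [toSq_sqMap, toSq_eq_zero_iff] at he'
  exact ⟨Z', π, hπ, toSq S T h x he', by rw [ex, toSq_sqMap]⟩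

section Serre

variable {P : ObjectProperty A}
  (h0 : ∃ Z : A, IsZero Z ∧ P Z)
  (hP : ∀ S : ComposableArrows A 4, S.Exact → P (S.obj 0) → P (S.obj 1) → P (S.obj 3) → P (S.obj 4) → P (S.obj 2))

include h0 hP

theorem P_left {a b c : A} (f : a ⟶ b) (g : b ⟶ c) (w : f ≫ g = 0) [Mono f]
    (hex : (ShortComplex.mk f g w).Exact) (hb : P b) (hc : P c) : P a := by
  obtain ⟨Z, hZ, hPZ⟩ := h0
  have hS : (ComposableArrows.mk₄ (0 : Z ⟶ Z) (0 : Z ⟶ a) f g).Exact := by
    refine ComposableArrows.exact_of_δ₀ ?_ (ComposableArrows.exact_of_δ₀ ?_ ?_)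
    · exact ComposableArrows.exact₂_mk _ zero_comp (ShortComplex.exact_of_isZero_X₂ _ hZ)
    · refine ComposableArrows.exact₂_mk _ zero_comp ?_
      exact (ShortComplex.exact_iff_mono _ rfl).2 ‹Mono f›
    · exact ComposableArrows.exact₂_mk _ w hex
  exact hP _ hS hPZ hPZ hb hc

theorem P_right {a b c : A} (f : a ⟶ b) (g : b ⟶ c) (w : f ≫ g = 0) [Epi g]
    (hex : (ShortComplex.mk f g w).Exact) (ha : P a) (hb : P b) : P c := by
  obtain ⟨Z, hZ, hPZ⟩ := h0
  have hS : (ComposableArrows.mk₄ f g (0 : c ⟶ Z) (0 : Z ⟶ Z)).Exact := by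
    refine ComposableArrows.exact_of_δ₀ ?_ (ComposableArrows.exact_of_δ₀ ?_ ?_)
    · exact ComposableArrows.exact₂_mk _ w hex
    · refine ComposableArrows.exact₂_mk _ comp_zero ?_
      exact (ShortComplex.exact_iff_epi _ rfl).2 ‹Epi g›
    · exact ComposableArrows.exact₂_mk _ zero_comp (ShortComplex.exact_of_isZero_X₂ _ hZ)
  exact hP _ hS ha hb hPZ hPZ

theorem P_mid {a b c : A} (f : a ⟶ b) (g : b ⟶ c) (w : f ≫ g = 0) [Mono f] [Epi g]
    (hex : (ShortComplex.mk f g w).Exact) (ha : P a) (hc : P c) : P b := by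
  obtain ⟨Z, hZ, hPZ⟩ := h0
  have hS : (ComposableArrows.mk₄ (0 : Z ⟶ a) f g (0 : c ⟶ Z)).Exact := by
    refine ComposableArrows.exact_of_δ₀ ?_ (ComposableArrows.exact_of_δ₀ ?_ ?_)
    · refine ComposableArrows.exact₂_mk _ zero_comp ?_
      exact (ShortComplex.exact_iff_mono _ rfl).2 ‹Mono f›
    · exact ComposableArrows.exact₂_mk _ w hex
    · refine ComposableArrows.exact₂_mk _ comp_zero ?_
      exact (ShortComplex.exact_iff_epi _ rfl).2 ‹Epi g›
  exact hP _ hS hPZ ha hc hPZ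

theorem P_of_isZero [P.IsClosedUnderIsomorphisms] {a : A} (ha : IsZero a) : P a := by
  obtain ⟨Z, hZ, hPZ⟩ := h0
  exact P.prop_of_iso (hZ.iso ha) hPZ

end Serre

end Groth.Agent.SpSeqFilCx
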